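import Groth.Agent.AVLine.P1
import Groth.Agent.HQProj.Basic
import Mathlib

/-!
# Affine space inside a smooth proper scheme over the base
-/

set_option autoImplicit false
set_option backward.isDefEq.respectTransparency false
universe u

open CategoryTheory CategoryTheory.Limits AlgebraicGeometry Polynomial

noncomputable section

namespace Groth.Agent.SmCompact

theorem smooth_toSpec_line : Smooth (CohB1.ProjSpace.toSpec 1 (ULift.{u} ℤ)) := by
  letI := AVLine.intAlg.{u} (ULift.{u} ℤ)
  let t := CohB1.ProjSpace.toSpec 1 (ULift.{u} ℤ)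
  let g := specULiftZIsTerminal.from (Spec (CommRingCat.of (ULift.{u} ℤ)))
  haveI : Smooth (pullback.snd t g) := AVLine.smooth_toBase (ULift.{u} ℤ)
  have hg : g = 𝟙 _ := specULiftZIsTerminal.hom_ext _ _
  haveI : IsIso g := by rw [hg]; infer_instance
  have e : t = inv (pullback.fst t g) ≫ pullback.snd t g ≫ g := by
    rw [IsIso.eq_inv_comp, pullback.condition]
  show Smooth t
  rw [e]
  infer_instance

theorem smooth_line (S : Scheme.{u}) : Smooth (CohB1.ProjSpaceOver.toBase 1 S) := by
  haveI := smooth_toSpec_line.{u}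
  exact MorphismProperty.pullback_snd _ _ inferInstance

/-- functoriality in the base -/
def lineMap {S S' : Scheme.{u}} (g : S' ⟶ S) :
    CohB1.ProjSpaceOver 1 S' ⟶ CohB1.ProjSpaceOver 1 S :=
  pullback.map _ _ _ _ (𝟙 _) g (𝟙 _) (by simp) (specULiftZIsTerminal.hom_ext _ _)

theorem lineMap_toBase {S S' : Scheme.{u}} (g : S' ⟶ S) :
    lineMap g ≫ CohB1.ProjSpaceOver.toBase 1 S = CohB1.ProjSpaceOver.toBase 1 S' ≫ g :=
  pullback.lift_snd _ _ _

instance {S S' : Scheme.{u}} (g : S' ⟶ S) [IsOpenImmersion g] : IsOpenImmersion (lineMap g) := by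
  have h : IsPullback (lineMap g) (CohB1.ProjSpaceOver.toBase 1 S') (CohB1.ProjSpaceOver.toBase 1 S) g := by
    refine IsPullback.of_right (h₁₂ := pullback.fst _ _)
      (h₂₂ := specULiftZIsTerminal.from S) (v₁₃ := CohB1.ProjSpace.toSpec 1 (ULift.{u} ℤ))
      ?_ (lineMap_toBase g) (IsPullback.of_hasPullback _ _)
    have e1 : lineMap g ≫ pullback.fst _ _ = pullback.fst _ _ :=
      (pullback.lift_fst _ _ _).trans (Category.comp_id _)
    rw [e1, show g ≫ specULiftZIsTerminal.from S = specULiftZIsTerminal.from S' from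
      specULiftZIsTerminal.hom_ext _ _]
    exact IsPullback.of_hasPullback _ _
  exact MorphismProperty.of_isPullback (P := @IsOpenImmersion) h.flip inferInstance

/-- Affine `n`-space over an affine open of `Y` is open in a smooth proper `Y`-scheme. -/
theorem exists_ambient {Y : Scheme.{u}} (A : CommRingCat.{u}) (v : Spec A ⟶ Y) [IsOpenImmersion v] :
    ∀ n : ℕ, ∃ (P : Scheme.{u}) (k : P ⟶ Y)
      (o : Spec (CommRingCat.of (MvPolynomial (Fin n) A)) ⟶ P), Smooth k ∧ IsProper k ∧ IsOpenImmersion o ∧
      o ≫ k = Spec.map (CommRingCat.ofHom MvPolynomial.C) ≫ v := by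
  intro n
  induction n with
  | zero =>
    let e : A ≅ CommRingCat.of (MvPolynomial (Fin 0) A) :=
      (MvPolynomial.isEmptyRingEquiv A (Fin 0)).symm.toCommRingCatIso
    have he : CommRingCat.ofHom MvPolynomial.C = e.hom := by
      refine CommRingCat.hom_ext (RingHom.ext fun a => ?_)
      show MvPolynomial.C a = (MvPolynomial.isEmptyRingEquiv A (Fin 0)).symm a
      rw [RingEquiv.eq_symm_apply]
      exact (MvPolynomial.isEmptyAlgEquiv A (Fin 0)).commutes a
    refine ⟨Y, 𝟙 Y, Spec.map e.hom ≫ v, inferInstance, inferInstance, inferInstance, ?_⟩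
    rw [Category.comp_id, he]
  | succ n ih =>
    obtain ⟨P, k, o, hk, hk', ho, ew⟩ := ih
    let R : CommRingCat.{u} := CommRingCat.of (MvPolynomial (Fin n) A)
    letI := AVLine.intAlg.{u} R
    let e : CommRingCat.of (Polynomial R) ≅ CommRingCat.of (MvPolynomial (Fin (n + 1)) A) :=
      (MvPolynomial.finSuccEquiv A n).symm.toRingEquiv.toCommRingCatIso
    haveI := smooth_line P
    haveI := HQProj.isProper_toBase 1 P
    refine ⟨CohB1.ProjSpaceOver 1 P, CohB1.ProjSpaceOver.toBase 1 P ≫ k,
      Spec.map e.hom ≫ AVLine.line R 0 ≫ lineMap o, inferInstance, inferInstance, inferInstance, ?_⟩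
    have hC : CommRingCat.ofHom (MvPolynomial.C (σ := Fin (n + 1)) (R := A)) =
        CommRingCat.ofHom (MvPolynomial.C (σ := Fin n) (R := A)) ≫
          CommRingCat.ofHom (Polynomial.C : R →+* Polynomial R) ≫ e.hom := by
      refine CommRingCat.hom_ext (RingHom.ext fun a => ?_)
      show MvPolynomial.C a = (MvPolynomial.finSuccEquiv A n).symm (Polynomial.C (MvPolynomial.C a))
      rw [AlgEquiv.eq_symm_apply]
      exact (MvPolynomial.finSuccEquiv A n).commutes a
    simp only [Category.assoc]
    rw [← Category.assoc (lineMap o), lineMap_toBase, Category.assoc, ew, ← Category.assoc (AVLine.line R 0),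
      AVLine.line_toBase, hC, Spec.map_comp, Spec.map_comp]
    simp only [Category.assoc]

end Groth.Agent.SmCompact
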